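import Cfsg.Agent.Lib.Glauberman.CyclicCorr
import Cfsg.Agent.Lib.Clifford.Gallagher
import Cfsg.Agent.Lib.CharExt.Characters
import Cfsg.Agent.Lib.CharExt.Obstruction
import Mathlib

/-!
# Fully ramified characters under a Frobenius action of a cyclic group

If `N ≤ G` are normal in `Γ` with `Γ ⧸ G` cyclic and no element outside `G` fixes a nonidentity
element of `G ⧸ N`, and `θ` is invariant and fully ramified in `G` with ramification `e`, then
`|Γ : G|` divides `e - 1` or `e + 1`.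
-/

set_option autoImplicit false

namespace Cfsg.Agent.Lib.FullyRamified.Frobenius

open Cfsg
open Cfsg.Agent.Lib
open Cfsg.Agent.Lib.Clifford (conjFun resFun)
open scoped ComplexConjugate Classical

universe u

section Coset

variable {Γ : Type u} [Group Γ] (G N : Subgroup Γ) [hG : G.Normal] [hN : N.Normal]

/-- Summing a class function over a coset outside `G`. -/
theorem sum_coset_eq [Finite Γ] [Fintype G] [Fintype N] (hNG : N ≤ G) {x : Γ}
    (hfix : ∀ g : Γ, g ∈ G → x * g * x⁻¹ * g⁻¹ ∈ N → g ∈ N) {F : Γ → ℂ}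
    (hF : IsClassFunction Γ F) :
    ∑ g : G, F ((g : Γ) * x) = ((N.subgroupOf G).index : ℂ) * ∑ n : N, F ((n : Γ) * x) := by
  haveI : Fintype (G ⧸ N.subgroupOf G) := Fintype.ofFinite _
  have hmemG : ∀ a : G, (a : Γ) * x * (a : Γ)⁻¹ * x⁻¹ ∈ G := fun a => by
    rw [show (a : Γ) * x * (a : Γ)⁻¹ * x⁻¹ = (a : Γ) * (x * (a : Γ)⁻¹ * x⁻¹) by group]
    exact G.mul_mem a.2 (hG.conj_mem _ (G.inv_mem a.2) x)
  let comm : G → G := fun a => ⟨(a : Γ) * x * (a : Γ)⁻¹ * x⁻¹, hmemG a⟩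
  let ψ : G ⧸ N.subgroupOf G → G ⧸ N.subgroupOf G := fun q => (comm q.out : G ⧸ N.subgroupOf G)
  have hinj : Function.Injective ψ := by
    intro q r hqr
    rw [← q.out_eq', ← r.out_eq']
    set a := q.out
    set b := r.out
    have h1 := QuotientGroup.eq.1 hqr
    rw [Subgroup.mem_subgroupOf] at h1
    have h2 : ((((b : Γ) * x * (b : Γ)⁻¹ * x⁻¹ : Γ)) : Γ ⧸ N)
        = (((a : Γ) * x * (a : Γ)⁻¹ * x⁻¹ : Γ) : Γ ⧸ N) := by
      symm
      exact QuotientGroup.eq.2 h1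
    simp only [QuotientGroup.mk_mul, QuotientGroup.mk_inv, mul_left_inj] at h2
    have h3 : x * ((b : Γ)⁻¹ * a) * x⁻¹ * ((b : Γ)⁻¹ * a)⁻¹ ∈ N := by
      rw [← QuotientGroup.eq_one_iff]
      simp only [QuotientGroup.mk_mul, QuotientGroup.mk_inv, mul_inv_rev, inv_inv]
      calc (x : Γ ⧸ N) * ((↑↑b)⁻¹ * ↑↑a) * (↑x)⁻¹ * ((↑↑a)⁻¹ * ↑↑b)
          = ((↑↑b)⁻¹ * ((↑↑b) * ↑x * (↑↑b)⁻¹)) * ↑↑a * (↑x)⁻¹ * ((↑↑a)⁻¹ * ↑↑b) := by group
        _ = ((↑↑b)⁻¹ * ((↑↑a) * ↑x * (↑↑a)⁻¹)) * ↑↑a * (↑x)⁻¹ * ((↑↑a)⁻¹ * ↑↑b) := by rw [h2]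
        _ = 1 := by group
    have h4 := hfix _ (G.mul_mem (G.inv_mem b.2) a.2) h3
    refine QuotientGroup.eq.2 ?_
    rw [Subgroup.mem_subgroupOf]
    simpa using N.inv_mem h4
  rw [← Finset.sum_fiberwise (s := (Finset.univ : Finset G))
    (g := fun g : G => (g : G ⧸ N.subgroupOf G))]
  rw [Finset.sum_congr rfl (g := fun _ => ∑ n : N, F ((n : Γ) * x)) ?_]
  · rw [Finset.sum_const, Finset.card_univ, ← Nat.card_eq_fintype_card, nsmul_eq_mul]
    rfl
  intro q' _
  obtain ⟨q, hq⟩ := (Finite.injective_iff_surjective.1 hinj) q'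
  set a := q.out
  have hfib : ∀ g : G, (g : G ⧸ N.subgroupOf G) = q' ↔
      (a : Γ)⁻¹ * (g : Γ) * x * a * x⁻¹ ∈ N := by
    intro g
    rw [← hq, eq_comm, QuotientGroup.eq, Subgroup.mem_subgroupOf]
    have hconj := Subgroup.Normal.mem_comm_iff hN
      (a := ((a : Γ) * x * (a : Γ)⁻¹ * x⁻¹)⁻¹) (b := (g : Γ))
    constructor
    · intro h
      have h' := hN.conj_mem _ (hconj.1 h) (a : Γ)⁻¹
      refine (congrArg (· ∈ N) ?_).mp h'
      group
    · intro h
      refine hconj.2 ?_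
      refine (congrArg (· ∈ N) ?_).mp (hN.conj_mem _ h (a : Γ))
      group
  refine Finset.sum_bij' (fun g hg => ⟨(a : Γ)⁻¹ * (g : Γ) * x * a * x⁻¹,
      (hfib g).1 (Finset.mem_filter.1 hg).2⟩)
    (fun n _ => ⟨(a : Γ) * ((n : Γ) * x) * (a : Γ)⁻¹ * x⁻¹, ?_⟩)
    (fun _ _ => Finset.mem_univ _) (fun n _ => ?_) (fun g _ => ?_) (fun n _ => ?_) (fun g _ => ?_)
  · rw [show (a : Γ) * ((n : Γ) * x) * (a : Γ)⁻¹ * x⁻¹
      = (a : Γ) * (n : Γ) * (a : Γ)⁻¹ * ((a : Γ) * x * (a : Γ)⁻¹ * x⁻¹) by group]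
    exact G.mul_mem (G.mul_mem (G.mul_mem a.2 (hNG n.2)) (G.inv_mem a.2)) (hmemG a)
  · refine Finset.mem_filter.2 ⟨Finset.mem_univ _, (hfib _).2 ?_⟩
    refine (congrArg (· ∈ N) ?_).mp n.2
    group
  · apply Subtype.ext
    show (a : Γ) * ((a : Γ)⁻¹ * (g : Γ) * x * a * x⁻¹ * x) * (a : Γ)⁻¹ * x⁻¹ = g
    group
  · apply Subtype.ext
    show (a : Γ)⁻¹ * ((a : Γ) * ((n : Γ) * x) * (a : Γ)⁻¹ * x⁻¹) * x * a * x⁻¹ = n
    group
  · show F ((g : Γ) * x) = F ((a : Γ)⁻¹ * (g : Γ) * x * a * x⁻¹ * x)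
    rw [show (a : Γ)⁻¹ * (g : Γ) * x * a * x⁻¹ * x
      = (a : Γ)⁻¹ * ((g : Γ) * x) * ((a : Γ)⁻¹)⁻¹ by group, hF]

end Coset

/-- An invariant irreducible character extends over a cyclic quotient. -/
theorem exists_ext_of_cyclic {Γ : Type u} [Group Γ] [Finite Γ] (N : Subgroup Γ) [hN : N.Normal]
    [IsCyclic (Γ ⧸ N)] (θ : IrrCharacter N) (hinv : ∀ g : Γ, conjFun g (θ : N → ℂ) = θ) :
    ∃ χ : IrrCharacter Γ, ∀ n : N, (χ : Γ → ℂ) n = (θ : N → ℂ) n := by
  obtain ⟨n, σ, hσ, hσc⟩ := Chars.irr_exists_rep θ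
  haveI := hσ
  obtain ⟨χ, hχ, hres⟩ := CharExt.exists_irrCharacter_of_extension N σ (θ : N → ℂ) hσc
    (CharExt.exists_extension_of_isCyclic N σ
      (CharExt.projG_surjective_of_char_invariant N σ (θ : N → ℂ) hσc
        fun g x => congrFun (hinv g) x))
  exact ⟨⟨χ, hχ⟩, hres⟩

/-- The irreducible characters of a commutative group are linear. -/
theorem apply_one_eq_one {A : Type u} [Group A] [Finite A] (hA : ∀ a b : A, a * b = b * a)
    (β : IrrCharacter A) : (β : A → ℂ) 1 = 1 ∧ Fintype.card (IrrCharacter A) = Nat.card A := by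
  have hcard : Fintype.card (IrrCharacter A) = Nat.card A := by
    rw [← Nat.card_eq_fintype_card, Chars.card_irrCharacter]
    refine (Nat.card_congr (Equiv.ofBijective ConjClasses.mk
      ⟨fun a b h => ?_, ConjClasses.mk_surjective⟩)).symm
    obtain ⟨c, hc⟩ := isConj_iff.1 (ConjClasses.mk_eq_mk_iff_isConj.1 h)
    rw [← hc, hA c a, mul_inv_cancel_right]
  refine ⟨?_, hcard⟩
  haveI : Fintype A := Fintype.ofFinite A
  choose d hd0 hd using fun γ : IrrCharacter A => Chars.isIrrCharacter_exists_degree_pos γ.2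
  have hsq := Chars.sum_degree_sq (G := A)
  simp only [hd] at hsq
  have hsq' : ∑ γ : IrrCharacter A, d γ ^ 2 = ∑ _γ : IrrCharacter A, 1 := by
    rw [Finset.sum_const, Finset.card_univ, hcard, smul_eq_mul, mul_one]
    exact_mod_cast hsq
  have h := (Finset.sum_eq_sum_iff_of_le (fun γ _ => Nat.one_le_pow 2 _ (hd0 γ))).1 hsq'.symm β
    (Finset.mem_univ _)
  rw [hd]
  have : d β = 1 := by nlinarith [hd0 β]
  rw [this, Nat.cast_one]

/-- The main computation inside `H`: a character `ψ` that is `e θ` on `N` and has coset norm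
`|N|` outside `N`. -/
theorem dvd_of_norm {H : Type u} [Group H] [Fintype H] (N : Subgroup H) [hN : N.Normal] [Fintype N]
    [IsCyclic (H ⧸ N)] (θ : IrrCharacter N) (hinv : ∀ g : H, conjFun g (θ : N → ℂ) = θ)
    {ψ : H → ℂ} (hψ : IsCharacter H ψ) (e : ℕ) (hψN : ∀ n : N, ψ n = (e : ℂ) * (θ : N → ℂ) n)
    (hout : ∀ x : H, x ∉ N → ∑ n : N, ψ ((n : H) * x) * conj (ψ ((n : H) * x)) = (Nat.card N : ℂ))
    (hd : 2 ≤ N.index) : (N.index : ℤ) ∣ (e : ℤ) - 1 ∨ (N.index : ℤ) ∣ (e : ℤ) + 1 := by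
  haveI : Fintype (H ⧸ N) := Fintype.ofFinite _
  set d := N.index with hdef
  have hN0 : (Nat.card N : ℂ) ≠ 0 := Chars.natCard_ne_zero
  have hd0 : (d : ℂ) ≠ 0 := by exact_mod_cast (show d ≠ 0 by omega)
  -- the norm of ψ
  have hnorm : (d : ℂ) * classInner ψ ψ = (e : ℂ) ^ 2 + ((d : ℂ) - 1) := by
    have hfib : ∀ q : H ⧸ N, ∑ h ∈ Finset.univ.filter (fun h : H => (h : H ⧸ N) = q),
        ψ h * conj (ψ h) = ∑ n : N, ψ ((n : H) * q.out) * conj (ψ ((n : H) * q.out)) := by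
      intro q
      symm
      refine Finset.sum_bij' (fun n _ => (n : H) * q.out)
        (fun h hh => ⟨h * q.out⁻¹, ?_⟩) (fun n _ => ?_) (fun _ _ => Finset.mem_univ _)
        (fun n _ => Subtype.ext (by group)) (fun h _ => by group) (fun n _ => rfl)
      · rw [← QuotientGroup.eq_one_iff, QuotientGroup.mk_mul, QuotientGroup.mk_inv,
          QuotientGroup.out_eq', (Finset.mem_filter.1 hh).2, mul_inv_cancel]
      · refine Finset.mem_filter.2 ⟨Finset.mem_univ _, ?_⟩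
        rw [QuotientGroup.mk_mul, QuotientGroup.out_eq', (QuotientGroup.eq_one_iff _).2 n.2,
          one_mul]
    have hval : ∀ q : H ⧸ N, ∑ n : N, ψ ((n : H) * q.out) * conj (ψ ((n : H) * q.out))
        = (Nat.card N : ℂ) * (1 + if q = 1 then (e : ℂ) ^ 2 - 1 else 0) := by
      intro q
      by_cases hq : q = 1
      · have hm : q.out ∈ N := by rw [← QuotientGroup.eq_one_iff, QuotientGroup.out_eq', hq]
        have h1 := Chars.classInner_irr_self θ
        rw [classInner, inv_mul_eq_one₀ hN0] at h1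
        rw [if_pos hq, show (Nat.card N : ℂ) * (1 + ((e : ℂ) ^ 2 - 1))
            = (e : ℂ) ^ 2 * (Nat.card N : ℂ) by ring]
        conv_rhs => rw [h1, Finset.mul_sum]
        refine Fintype.sum_equiv (Equiv.mulRight (⟨q.out, hm⟩ : N)) _ _ fun n => ?_
        rw [Equiv.coe_mulRight, show (n : H) * q.out = ((n * ⟨q.out, hm⟩ : N) : H) from rfl, hψN,
          map_mul, Complex.conj_natCast]
        ring
      · have hm : q.out ∉ N := fun h => hq (by
          rw [← QuotientGroup.out_eq' q]; exact (QuotientGroup.eq_one_iff _).2 h)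
        rw [hout _ hm, if_neg hq]; ring
    have hsum : ∑ h : H, ψ h * conj (ψ h) = (Nat.card N : ℂ) * ((d : ℂ) + ((e : ℂ) ^ 2 - 1)) := by
      rw [← Finset.sum_fiberwise (s := (Finset.univ : Finset H)) (g := fun h : H => (h : H ⧸ N)),
        Finset.sum_congr rfl fun q _ => (hfib q).trans (hval q), ← Finset.mul_sum,
        Finset.sum_add_distrib, Finset.sum_ite_eq', if_pos (Finset.mem_univ _), Finset.sum_const,
        Finset.card_univ, nsmul_one, ← Nat.card_eq_fintype_card]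
      rfl
    unfold classInner
    rw [hsum, ← N.card_mul_index, Nat.cast_mul, ← hdef]
    field_simp
    ring
  -- Gallagher
  obtain ⟨χ, hχ⟩ := exists_ext_of_cyclic N θ hinv
  have hres : resFun N (χ : H → ℂ) = (θ : N → ℂ) := funext hχ
  obtain ⟨hirr, hinj, hall⟩ := Clifford.gallagher χ.2 (hres ▸ θ.2)
  let φ : IrrCharacter (H ⧸ N) → IrrCharacter H := fun β => ⟨_, hirr β⟩
  have hφinj : Function.Injective φ := fun a b h => hinj (congrArg Subtype.val h)
  obtain ⟨m, hm⟩ := Chars.isCharacter_exists_nat_decomp hψ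
  have hout0 : ∀ γ : IrrCharacter H, (∀ β, φ β ≠ γ) → m γ = 0 := by
    intro γ hγ
    by_contra hm0
    have hzero : classInner (resFun N (γ : H → ℂ)) (θ : N → ℂ) = 0 := by
      by_contra h0
      obtain ⟨β, hβ⟩ := (hall _ γ.2).1 (by rwa [hres])
      exact hγ β (Subtype.ext hβ.symm)
    obtain ⟨c, hc⟩ := Chars.isCharacter_exists_nat_decomp
      (Chars.isCharacter_restrict (H := N) (Chars.irr_isCharacter γ))
    -- every constituent of the restriction is θ
    have hother : ∀ α : IrrCharacter N, α ≠ θ → c α = 0 := by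
      intro α hα
      choose r hr using fun δ : IrrCharacter H => Chars.isCharacter_classInner_nat
        (Chars.isCharacter_restrict (H := N) (Chars.irr_isCharacter δ)) (Chars.irr_isCharacter α)
      have h1 : classInner (fun n : N => ψ n) (α : N → ℂ) = 0 := by
        rw [show (fun n : N => ψ n) = (e : ℂ) • (θ : N → ℂ) from funext hψN,
          Chars.classInner_smul_left, Chars.classInner_irr_of_ne (Ne.symm hα), mul_zero]
      have h2 : ((∑ δ, m δ * r δ : ℕ) : ℂ) = 0 := by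
        rw [← h1, show (fun n : N => ψ n)
            = ∑ δ : IrrCharacter H, (m δ : ℂ) • (fun n : N => (δ : H → ℂ) n) from funext fun n => by
              rw [hm]; simp, Chars.classInner_sum_left]
        push_cast
        refine Finset.sum_congr rfl fun δ _ => ?_
        rw [Chars.classInner_smul_left, hr]
      have h3 := Finset.sum_eq_zero_iff.1 (Nat.cast_eq_zero.1 h2) γ (Finset.mem_univ _)
      have h4 : r γ = 0 := (Nat.mul_eq_zero.1 h3).resolve_left hm0
      have h5 := hr γ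
      rw [h4, hc, Chars.classInner_sum_smul_irr] at h5
      exact_mod_cast h5
    have hθ0 : c θ = 0 := by
      have h5 : classInner (fun n : N => (γ : H → ℂ) n) (θ : N → ℂ) = 0 := hzero
      rw [hc, Chars.classInner_sum_smul_irr] at h5
      exact_mod_cast h5
    have h6 : (γ : H → ℂ) ((1 : N) : H) = 0 := by
      rw [show (γ : H → ℂ) ((1 : N) : H) = (fun n : N => (γ : H → ℂ) n) 1 from rfl, hc,
        Finset.sum_apply]
      refine Finset.sum_eq_zero fun α _ => ?_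
      by_cases hα : α = θ
      · simp [hα, hθ0]
      · simp [hother α hα]
    exact Chars.irr_apply_one_ne_zero γ (by simpa using h6)
  set k : IrrCharacter (H ⧸ N) → ℤ := fun β => (m (φ β) : ℤ) with hk
  have hψsum : ψ = ∑ β, (m (φ β) : ℂ) • (φ β : H → ℂ) := by
    refine hm.trans ?_
    rw [← Finset.sum_image (f := fun γ : IrrCharacter H => (m γ : ℂ) • (γ : H → ℂ))
      (fun a _ b _ h => hφinj h)]
    refine (Finset.sum_subset (Finset.subset_univ _) fun γ _ hγ => ?_).symm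
    rw [hout0 γ fun β hβ => hγ (Finset.mem_image.2 ⟨β, Finset.mem_univ _, hβ⟩), Nat.cast_zero,
      zero_smul]
  have hcomm : ∀ a b : H ⧸ N, a * b = b * a := fun a b => (IsCyclic.commGroup (α := H ⧸ N)).mul_comm a b
  have hcardι : (Fintype.card (IrrCharacter (H ⧸ N)) : ℤ) = d := by
    rw [(apply_one_eq_one hcomm (Chars.trivialIrr _)).2]; rfl
  have hsum1 : ∑ β, k β = e := by
    have h1 := congrFun hψsum ((1 : N) : H)
    rw [hψN, Finset.sum_apply] at h1
    have h2 : ∀ β, ((m (φ β) : ℂ) • (φ β : H → ℂ)) ((1 : N) : H)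
        = (m (φ β) : ℂ) * (θ : N → ℂ) 1 := by
      intro β
      show _ * ((χ : H → ℂ) ((1 : N) : H) * _) = _
      rw [hχ, Clifford.inflate_apply_mem, (apply_one_eq_one hcomm β).1, mul_one]
    rw [Finset.sum_congr rfl fun β _ => h2 β, ← Finset.sum_mul] at h1
    have h3 := mul_right_cancel₀ (Chars.irr_apply_one_ne_zero θ) h1
    have : ((∑ β, k β : ℤ) : ℂ) = ((e : ℤ) : ℂ) := by push_cast; simp [hk, h3]
    exact_mod_cast this
  have hsum2 : (d : ℤ) * ∑ β, k β ^ 2 - (∑ β, k β) ^ 2 = (d : ℤ) - 1 := by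
    have h1 : classInner ψ ψ = ∑ β, (m (φ β) : ℂ) ^ 2 := by
      conv_lhs => rw [hψsum]
      rw [Chars.classInner_sum_left]
      refine Finset.sum_congr rfl fun β _ => ?_
      rw [Chars.classInner_smul_left, Chars.classInner_sum_right, Finset.sum_eq_single β
        (fun b _ hb => by rw [Chars.classInner_smul_right,
          Chars.classInner_irr_of_ne (fun h => hb (hφinj h).symm), mul_zero])
        (fun h => absurd (Finset.mem_univ _) h), Chars.classInner_smul_right,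
        Chars.classInner_irr_self, Complex.conj_natCast]
      ring
    rw [h1] at hnorm
    have h2 : (((d : ℤ) * ∑ β, k β ^ 2 - (∑ β, k β) ^ 2 : ℤ) : ℂ) = (((d : ℤ) - 1 : ℤ) : ℂ) := by
      rw [hsum1]
      push_cast
      simp only [hk, Int.cast_natCast]
      rw [hnorm]
      ring
    exact_mod_cast h2
  have hv := Glauberman.int_variance k
  rw [hcardι] at hv
  have hnc : ¬ ∀ i j, k i = k j := fun h => by
    have := hv.2.1 h
    omega
  obtain ⟨i₀, ε, a, hε, ha, ha0⟩ := (hv.2.2 hnc).2 hsum2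
  haveI : Nonempty (IrrCharacter (H ⧸ N)) := ⟨i₀⟩
  have htot : ∑ β, k β = (d : ℤ) * a + ε := by
    rw [← Finset.add_sum_erase _ _ (Finset.mem_univ i₀),
      Finset.sum_congr rfl fun i hi => ha i (Finset.mem_erase.1 hi).1, Finset.sum_const,
      Finset.card_erase_of_mem (Finset.mem_univ _), Finset.card_univ, nsmul_eq_mul,
      Nat.cast_sub Fintype.card_pos, hcardι, ha0]
    ring
  rw [hsum1] at htot
  rcases hε with rfl | rfl
  · exact Or.inl ⟨a, by rw [htot]; ring⟩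
  · exact Or.inr ⟨a, by rw [htot]; ring⟩

/-- The theorem. -/
theorem index_dvd {Γ : Type u} [Group Γ] [Fintype Γ] (G N : Subgroup Γ) [hG : G.Normal]
    [hN : N.Normal] [Fintype G] [Fintype N] (hNG : N ≤ G) (hGlt : G ≠ ⊤)
    (hcyc : IsCyclic (Γ ⧸ G))
    (hfrob : ∀ x : Γ, x ∉ G → ∀ g : Γ, g ∈ G → x * g * x⁻¹ * g⁻¹ ∈ N → g ∈ N)
    (θ : IrrCharacter N) (hinv : ∀ x : Γ, conjFun x (θ : N → ℂ) = θ) (χ : IrrCharacter G) (e : ℕ)
    (hram : indFun (N.subgroupOf G) (fun n : N.subgroupOf G => (θ : N → ℂ) ⟨(n : G), n.2⟩)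
      = fun g => (e : ℂ) * (χ : G → ℂ) g) :
    (G.index : ℤ) ∣ (e : ℤ) - 1 ∨ (G.index : ℤ) ∣ (e : ℤ) + 1 := by
  set N' := N.subgroupOf G with hN'
  haveI : Fintype N' := Fintype.ofFinite _
  set θ' : N' → ℂ := fun n => (θ : N → ℂ) ⟨(n : G), n.2⟩ with hθ'
  have hθirr : IsIrrCharacter N' θ' :=
    Chars.isIrrCharacter_comp_surjective
      (Subgroup.subgroupOfEquivOfLe hNG).toMonoidHom (Subgroup.subgroupOfEquivOfLe hNG).surjective θ.2
  have hθinv : ∀ g : G, conjFun g θ' = θ' := fun g =>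
    funext fun n => congrFun (hinv (g : Γ)) ⟨((n : G) : Γ), n.2⟩
  -- the square of e and the values on N
  have hsq : (N'.index : ℂ) = (e : ℂ) ^ 2 := by
    rw [← Clifford.classInner_indFun_invariant hθirr hθinv, hram,
      show (fun g => (e : ℂ) * (χ : G → ℂ) g) = (e : ℂ) • (χ : G → ℂ) from rfl,
      Chars.classInner_smul_left, Chars.classInner_smul_right, Chars.classInner_irr_self,
      Complex.conj_natCast]
    ring
  have he0 : (e : ℂ) ≠ 0 := fun h => by
    rw [h, zero_pow two_ne_zero, Nat.cast_eq_zero] at hsq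
    exact Subgroup.index_ne_zero_of_finite hsq
  have hχN : ∀ n : N, (χ : G → ℂ) ⟨n, hNG n.2⟩ = (e : ℂ) * (θ : N → ℂ) n := by
    intro n
    let n' : N' := ⟨⟨n, hNG n.2⟩, n.2⟩
    have h1 := congrFun hram (n' : G)
    have h2 := congrFun (Clifford.resFun_indFun (N := N') θ') n'
    simp only [Clifford.resFun_apply] at h2
    rw [h2, Finset.sum_congr rfl fun x _ => hθinv x, Finset.sum_const, Finset.card_univ,
      ← Nat.cast_smul_eq_nsmul ℂ, smul_smul, Pi.smul_apply, smul_eq_mul, Fintype.card_eq_nat_card,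
      ← N'.card_mul_index, Nat.cast_mul, inv_mul_cancel_left₀ Chars.natCard_ne_zero, hsq] at h1
    show (χ : G → ℂ) (n' : G) = _
    exact mul_left_cancel₀ he0 (by rw [← h1]; simp [hθ', n']; ring)
  -- χ is invariant
  have hχinv : ∀ x : Γ, conjFun x (χ : G → ℂ) = χ := by
    intro x
    funext g
    refine mul_left_cancel₀ he0 ?_
    show (e : ℂ) * (χ : G → ℂ) ⟨x * g * x⁻¹, _⟩ = _
    rw [← congrFun hram, ← congrFun hram]
    unfold indFun
    congr 1
    refine Fintype.sum_equiv (MulAut.conjNormal x⁻¹).toEquiv _ _ fun y => ?_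
    set z : G := MulAut.conjNormal x⁻¹ y
    have hz : ((z⁻¹ * g * z : G) : Γ)
        = x⁻¹ * ((y : Γ)⁻¹ * (x * g * x⁻¹) * y) * x := by
      simp only [z, Subgroup.coe_mul, Subgroup.coe_inv, MulAut.conjNormal_apply, inv_inv]
      group
    show Cfsg.extendByZero N' θ' _ = Cfsg.extendByZero N' θ' (z⁻¹ * g * z)
    set u : G := y⁻¹ * ⟨x * g * x⁻¹, hG.conj_mem _ g.2 x⟩ * y with hu
    have hzu : ((z⁻¹ * g * z : G) : Γ) = x⁻¹ * (u : Γ) * x := hz
    have hiff : u ∈ N' ↔ z⁻¹ * g * z ∈ N' := by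
      simp only [hN', Subgroup.mem_subgroupOf, hzu]
      exact ⟨fun h => by simpa using hN.conj_mem _ h x⁻¹,
        fun h => by
          have h' := hN.conj_mem _ h x
          simpa [mul_assoc] using h'⟩
    by_cases hu' : u ∈ N'
    · rw [Chars.extendByZero_of_mem _ hu', Chars.extendByZero_of_mem _ (hiff.1 hu')]
      show (θ : N → ℂ) ⟨u, _⟩ = (θ : N → ℂ) ⟨_, _⟩
      conv_lhs => rw [← hinv x⁻¹]
      show (θ : N → ℂ) _ = _
      congr 1
      refine congrArg _ (Subtype.ext ?_)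
      show x⁻¹ * (u : Γ) * x⁻¹⁻¹ = ((z⁻¹ * g * z : G) : Γ)
      rw [hzu, inv_inv]
    · rw [Chars.extendByZero_of_not_mem _ hu', Chars.extendByZero_of_not_mem _ (mt hiff.2 hu')]
  haveI := hcyc
  obtain ⟨χh, hext⟩ := exists_ext_of_cyclic G χ hχinv
  -- coset norms
  have hcoset : ∀ x : Γ, x ∉ G →
      ∑ n : N, (χh : Γ → ℂ) ((n : Γ) * x) * conj ((χh : Γ → ℂ) ((n : Γ) * x)) = (Nat.card N : ℂ) := by
    intro x hx
    have h1 := Glauberman.coset_orth hext hext (fun _ => rfl) x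
    rw [if_pos rfl, sum_coset_eq G N hNG (hfrob x hx)
      (F := fun z => (χh : Γ → ℂ) z * conj ((χh : Γ → ℂ) z)) (fun z k => by
        show _ * _ = _ * _
        rw [Chars.irr_isClassFunction χh z k]),
      inv_mul_eq_one₀ Chars.natCard_ne_zero, ← N'.card_mul_index, Nat.cast_mul, hsq,
      Nat.card_congr (Subgroup.subgroupOfEquivOfLe hNG).toEquiv] at h1
    exact mul_left_cancel₀ (pow_ne_zero 2 he0) (by rw [← h1]; ring)
  -- a cyclic complement modulo N
  obtain ⟨q, hq⟩ := IsCyclic.exists_generator (α := Γ ⧸ G)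
  obtain ⟨x₀, rfl⟩ := QuotientGroup.mk_surjective q
  set d := G.index with hd
  have hord : orderOf (x₀ : Γ ⧸ G) = d := orderOf_eq_card_of_forall_mem_zpowers hq
  have hd2 : 2 ≤ d := by
    have h1 : d ≠ 1 := fun h => hGlt (Subgroup.index_eq_one.1 h)
    have h2 : d ≠ 0 := Subgroup.index_ne_zero_of_finite
    omega
  have hx₀ : x₀ ∉ G := fun h => by
    rw [(QuotientGroup.eq_one_iff x₀).2 h, orderOf_one] at hord
    omega
  have hxdN : x₀ ^ d ∈ N := by
    refine hfrob x₀ hx₀ _ ?_ ?_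
    · rw [← QuotientGroup.eq_one_iff, QuotientGroup.mk_pow, ← hord, pow_orderOf_eq_one]
    · rw [(Commute.self_pow x₀ d).eq, mul_inv_cancel_right, mul_inv_cancel]; exact N.one_mem
  set H : Subgroup Γ := (Subgroup.zpowers (x₀ : Γ ⧸ N)).comap (QuotientGroup.mk' N) with hH
  have hNH : N ≤ H := fun n hn => by
    rw [hH, Subgroup.mem_comap, QuotientGroup.mk'_apply, (QuotientGroup.eq_one_iff n).2 hn]; exact Subgroup.one_mem _
  let f : H →* Γ ⧸ G := (QuotientGroup.mk' G).comp H.subtype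
  have hker : f.ker = N.subgroupOf H := by
    ext h
    rw [MonoidHom.mem_ker, Subgroup.mem_subgroupOf]
    constructor
    · intro hh
      obtain ⟨k, hk⟩ := Subgroup.mem_zpowers_iff.1 (show ((h : Γ) : Γ ⧸ N) ∈ _ from h.2)
      rw [← QuotientGroup.mk_zpow] at hk
      have h1 : ((x₀ ^ k : Γ) : Γ ⧸ G) = 1 := by
        have h2 : (x₀ ^ k)⁻¹ * (h : Γ) ∈ G := hNG (QuotientGroup.eq.1 hk)
        rw [QuotientGroup.eq.2 h2]; exact hh
      rw [QuotientGroup.mk_zpow, ← orderOf_dvd_iff_zpow_eq_one, hord] at h1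
      obtain ⟨m, rfl⟩ := h1
      rw [← QuotientGroup.eq_one_iff, ← hk, QuotientGroup.eq_one_iff, zpow_mul, zpow_natCast]
      exact N.zpow_mem hxdN m
    · intro hh
      exact (QuotientGroup.eq_one_iff _).2 (hNG hh)
  have hsurj : Function.Surjective f := by
    intro r
    obtain ⟨k, hk⟩ := Subgroup.mem_zpowers_iff.1 (hq r)
    refine ⟨⟨x₀ ^ k, ?_⟩, ?_⟩
    · rw [hH, Subgroup.mem_comap, QuotientGroup.mk'_apply, QuotientGroup.mk_zpow]; exact Subgroup.zpow_mem_zpowers _ _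
    · show ((x₀ ^ k : Γ) : Γ ⧸ G) = r
      rw [QuotientGroup.mk_zpow, hk]
  haveI : (N.subgroupOf H).Normal := inferInstance
  let iso : H ⧸ N.subgroupOf H ≃* Γ ⧸ G :=
    (QuotientGroup.quotientMulEquivOfEq hker.symm).trans
      (QuotientGroup.quotientKerEquivOfSurjective f hsurj)
  haveI : IsCyclic (H ⧸ N.subgroupOf H) := isCyclic_of_surjective iso.symm iso.symm.surjective
  have hidx : (N.subgroupOf H).index = d := Nat.card_congr iso.toEquiv
  haveI : Fintype H := Fintype.ofFinite _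
  haveI : Fintype (N.subgroupOf H) := Fintype.ofFinite _
  let θH : IrrCharacter (N.subgroupOf H) := ⟨_, Chars.isIrrCharacter_comp_surjective
    (Subgroup.subgroupOfEquivOfLe hNH).toMonoidHom (Subgroup.subgroupOfEquivOfLe hNH).surjective θ.2⟩
  have hmain := dvd_of_norm (N.subgroupOf H) θH
    (fun g => funext fun n => congrFun (hinv (g : Γ)) ⟨((n : H) : Γ), n.2⟩)
    (ψ := fun h : H => (χh : Γ → ℂ) h) (Chars.isCharacter_restrict (H := H) (Chars.irr_isCharacter χh)) e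
    (fun n => (hext ⟨((n : H) : Γ), hNG n.2⟩).trans (hχN ⟨((n : H) : Γ), n.2⟩))
    (fun x hx => ?_) (hidx ▸ hd2)
  · rwa [hidx] at hmain
  have hxG : (x : Γ) ∉ G := fun h => hx (by
    rw [← hker, MonoidHom.mem_ker]; exact (QuotientGroup.eq_one_iff _).2 h)
  rw [Nat.card_congr (Subgroup.subgroupOfEquivOfLe hNH).toEquiv, ← hcoset x hxG]
  exact Fintype.sum_equiv (Subgroup.subgroupOfEquivOfLe hNH).toEquiv _ _ fun n => rfl

end Cfsg.Agent.Lib.FullyRamified.Frobenius
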