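import Mathlib
import Cfsg.Agent.Lib.Glauberman.Action
import Cfsg.Agent.Lib.Glauberman.PGroup
import Cfsg.Agent.Lib.Glauberman.Bridge
import Cfsg.Agent.Lib.Clifford.Gallagher
import Cfsg.Agent.Lib.CharExt.Characters

/-!
# Fully ramified characters and Sylow complements in quotients

If `χ` is fully ramified over `Z`, `K ⊇ Z` is normal and the Sylow `p`-subgroup `Q/Z` acts freely
on the characters over `θ` of its intersection with `K`, then `H ⧸ K` has a `p`-complement.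
-/

set_option autoImplicit false

namespace Cfsg.Agent.Lib.FullyRamified

open Cfsg
open Cfsg.Agent.Lib
open Cfsg.Agent.Lib.Glauberman (IsConjBy Normalises resSub charMult normGroup invGroup)
open scoped ComplexConjugate

variable {H : Type*} [Group H]

theorem relIndex_mul_card_inf (S X : Subgroup H) :
    S.relIndex X * Nat.card ↥(S ⊓ X) = Nat.card X := by
  rw [← Subgroup.inf_relIndex_right, ← Subgroup.relIndex_bot_left, ← Subgroup.relIndex_bot_left,
    mul_comm, Subgroup.relIndex_mul_relIndex ⊥ (S ⊓ X) X bot_le inf_le_right]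

theorem card_mul_relIndex_of_le {A L : Subgroup H} (h : A ≤ L) :
    Nat.card A * A.relIndex L = Nat.card L := by
  have h0 := relIndex_mul_card_inf A L
  rw [inf_of_le_left h] at h0
  rw [mul_comm, h0]

variable [Finite H]

theorem relIndex_eq_relIndex_sup (A S : Subgroup H) [A.Normal] :
    S.relIndex (A ⊔ S) = S.relIndex A := by
  have h1 := relIndex_mul_card_inf S (A ⊔ S)
  rw [inf_of_le_left le_sup_right] at h1
  have h2 := relIndex_mul_card_inf A (A ⊔ S)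
  rw [inf_of_le_left le_sup_left, Subgroup.relIndex_sup_left] at h2
  have h3 := relIndex_mul_card_inf A S
  have h4 := relIndex_mul_card_inf S A
  rw [inf_comm] at h4
  have hS : 0 < Nat.card S := Nat.card_pos
  rw [← h3] at h1 hS
  have : S.relIndex (A ⊔ S) * (A.relIndex S * Nat.card ↥(A ⊓ S)) =
      S.relIndex A * (A.relIndex S * Nat.card ↥(A ⊓ S)) := by
    rw [h1, ← h2, ← h4]; ring
  exact Nat.eq_of_mul_eq_mul_right hS this

theorem charMult_trans_ne_zero {A B L : Subgroup H} (h : B ≤ A) (h' : L ≤ B) (α : IrrCharacter A)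
    (β : IrrCharacter B) (γ : IrrCharacter L)
    (e : charMult (resSub h (α : A → ℂ)) (β : B → ℂ) ≠ 0)
    (e' : charMult (resSub h' (β : B → ℂ)) (γ : L → ℂ) ≠ 0) :
    charMult (resSub (h'.trans h) (α : A → ℂ)) (γ : L → ℂ) ≠ 0 := by
  rw [Glauberman.charMult_trans h h' (Chars.irr_isCharacter α)]
  intro h0
  exact mul_ne_zero e e' (Finset.sum_eq_zero_iff.1 h0 β (Finset.mem_univ _))

variable {Z : Subgroup H} [Z.Normal]

/-- `χ` is fully ramified over `θ`. -/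
structure Ram (χ : IrrCharacter H) (θ : IrrCharacter Z) (e : ℕ) : Prop where
  sq : e ^ 2 = Z.index
  res : ∀ z : Z, (χ : H → ℂ) z = (e : ℂ) * (θ : Z → ℂ) z

variable {L Q : Subgroup H}

/-- `ω` lies over `θ`. -/
def Over (hZL : Z ≤ L) (θ : IrrCharacter Z) (ω : IrrCharacter L) : Prop :=
  charMult (resSub hZL (ω : L → ℂ)) (θ : Z → ℂ) ≠ 0

namespace Ram

variable {χ : IrrCharacter H} {θ : IrrCharacter Z} {e : ℕ} (R : Ram χ θ e)

include R

theorem e_ne : e ≠ 0 := fun h =>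
  Subgroup.index_ne_zero_of_finite (H := Z) (by rw [← R.sq, h]; rfl)

theorem normalises (h : H) : Normalises h Z :=
  Glauberman.normalises_of_mem fun z hz => ‹Z.Normal›.conj_mem z hz h

theorem inv (h : H) : IsConjBy h (θ : Z → ℂ) (θ : Z → ℂ) := fun z z' e' => by
  refine mul_left_cancel₀ (Nat.cast_ne_zero.2 R.e_ne) ?_
  rw [← R.res, ← R.res, e']
  exact Chars.irr_isClassFunction χ _ _

theorem constituent_eq (hZL : Z ≤ L) {ω : IrrCharacter L} (hω : Over hZL θ ω)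
    {α : IrrCharacter Z} (hα : charMult (resSub hZL (ω : L → ℂ)) (α : Z → ℂ) ≠ 0) : α = θ := by
  obtain ⟨g, hg, hc⟩ := Glauberman.exists_conj_of_constituent hZL
    (fun g _ n hn => ‹Z.Normal›.conj_mem n hn g) ω θ α hω hα
  exact Subtype.ext (IsConjBy.eq (R.normalises g) hc (R.inv g))

theorem over_smul (hZL : Z ≤ L) {ω : IrrCharacter L} (hω : Over hZL θ ω) (z : Z) :
    (ω : L → ℂ) ⟨z, hZL z.2⟩ =
      (charMult (resSub hZL (ω : L → ℂ)) (θ : Z → ℂ) : ℂ) * (θ : Z → ℂ) z := by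
  have h := congrFun (Glauberman.eq_sum_charMult
    (Glauberman.isCharacter_resSub hZL (Chars.irr_isCharacter ω))) z
  rw [Glauberman.resSub_apply] at h
  rw [h, Finset.sum_apply, Finset.sum_eq_single θ ?_ (fun h' => absurd (Finset.mem_univ _) h')]
  · rfl
  · intro α _ hne
    have : charMult (resSub hZL (ω : L → ℂ)) (α : Z → ℂ) = 0 := by
      by_contra h0
      exact hne (R.constituent_eq hZL hω h0)
    simp [this]

theorem over_below {M : Subgroup H} (hZM : Z ≤ M) (hML : M ≤ L) {ω : IrrCharacter L}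
    (hω : Over (hZM.trans hML) θ ω) {α : IrrCharacter M}
    (hα : charMult (resSub hML (ω : L → ℂ)) (α : M → ℂ) ≠ 0) : Over hZM θ α := by
  obtain ⟨γ, hγ⟩ := Glauberman.exists_below hZM α
  have := R.constituent_eq (hZM.trans hML) hω (charMult_trans_ne_zero hML hZM ω α γ hα hγ)
  exact this ▸ hγ

theorem over_above {M : Subgroup H} (hZM : Z ≤ M) (hML : M ≤ L) {α : IrrCharacter M}
    (hα : Over hZM θ α) :
    ∃ ω : IrrCharacter L, charMult (resSub hML (ω : L → ℂ)) (α : M → ℂ) ≠ 0 ∧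
      Over (hZM.trans hML) θ ω := by
  obtain ⟨ω, hω⟩ := Glauberman.exists_above hML α
  exact ⟨ω, hω, charMult_trans_ne_zero hML hZM ω α θ hω hα⟩

theorem sum_theta [Fintype Z] : ∑ z : Z, (θ : Z → ℂ) z * conj ((θ : Z → ℂ) z) = (Nat.card Z : ℂ) := by
  have h := Chars.classInner_irr_self θ
  rw [Cfsg.classInner, inv_mul_eq_iff_eq_mul₀ Chars.natCard_ne_zero, mul_one] at h
  exact h

theorem sum_normSq_mem (hZL : Z ≤ L) [Fintype L] [DecidablePred fun x : L => (x : H) ∈ Z]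
    {f : L → ℂ} {c : ℕ} (hf : ∀ z : Z, f ⟨z, hZL z.2⟩ = (c : ℂ) * (θ : Z → ℂ) z) :
    ∑ x ∈ Finset.univ.filter (fun x : L => (x : H) ∈ Z), f x * conj (f x) =
      (c : ℂ) ^ 2 * (Nat.card Z : ℂ) := by
  haveI := Fintype.ofFinite Z
  rw [← R.sum_theta, Finset.mul_sum]
  refine (Finset.sum_bij (fun (z : Z) _ => (⟨z, hZL z.2⟩ : L))
    (fun z _ => Finset.mem_filter.2 ⟨Finset.mem_univ _, z.2⟩)
    (fun a _ b _ h => Subtype.ext (congrArg (fun x : L => (x : H)) h))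
    (fun x hx => ⟨⟨x, (Finset.mem_filter.1 hx).2⟩, Finset.mem_univ _, rfl⟩) (fun z _ => ?_)).symm
  rw [hf, map_mul, Complex.conj_natCast]
  ring

theorem sum_normSq_re (hZL : Z ≤ L) [Fintype L] (ω : IrrCharacter L) :
    ∑ x : L, Complex.normSq ((ω : L → ℂ) x) = (Nat.card L : ℝ) := by
  have h := Chars.classInner_irr_self ω
  rw [Cfsg.classInner, inv_mul_eq_iff_eq_mul₀ Chars.natCard_ne_zero, mul_one] at h
  have h' : ((∑ x : L, Complex.normSq ((ω : L → ℂ) x) : ℝ) : ℂ) = ((Nat.card L : ℝ) : ℂ) := by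
    push_cast
    rw [← h]
    exact Finset.sum_congr rfl fun x _ => (Complex.mul_conj _).symm
  exact_mod_cast h'

theorem norm_bound (hZL : Z ≤ L) {ω : IrrCharacter L} (hω : Over hZL θ ω) :
    charMult (resSub hZL (ω : L → ℂ)) (θ : Z → ℂ) ^ 2 ≤ Z.relIndex L ∧
      (charMult (resSub hZL (ω : L → ℂ)) (θ : Z → ℂ) ^ 2 = Z.relIndex L →
        ∀ x : L, (x : H) ∉ Z → (ω : L → ℂ) x = 0) := by
  classical
  haveI := Fintype.ofFinite L
  set c := charMult (resSub hZL (ω : L → ℂ)) (θ : Z → ℂ)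
  have h1 := R.sum_normSq_re hZL ω
  have h2 : ∑ x ∈ Finset.univ.filter (fun x : L => (x : H) ∈ Z),
      Complex.normSq ((ω : L → ℂ) x) = ((c ^ 2 * Nat.card Z : ℕ) : ℝ) := by
    have := R.sum_normSq_mem hZL (f := (ω : L → ℂ)) (c := c) (fun z => R.over_smul hZL hω z)
    simp only [Complex.mul_conj] at this
    rw [← Complex.ofReal_sum] at this
    push_cast
    exact_mod_cast this
  have h3 := Finset.sum_filter_add_sum_filter_not (Finset.univ : Finset L)
    (fun x : L => (x : H) ∈ Z) (fun x => Complex.normSq ((ω : L → ℂ) x))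
  rw [h1, h2, ← card_mul_relIndex_of_le hZL] at h3
  have h4 : 0 ≤ ∑ x ∈ Finset.univ.filter (fun x : L => ¬ (x : H) ∈ Z),
      Complex.normSq ((ω : L → ℂ) x) := Finset.sum_nonneg fun x _ => Complex.normSq_nonneg _
  constructor
  · have h5 : ((c ^ 2 * Nat.card Z : ℕ) : ℝ) ≤ ((Nat.card Z * Z.relIndex L : ℕ) : ℝ) := by
      linarith
    have h6 : c ^ 2 * Nat.card Z ≤ Nat.card Z * Z.relIndex L := by exact_mod_cast h5
    rw [mul_comm] at h6
    exact Nat.le_of_mul_le_mul_left h6 Nat.card_pos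
  · intro heq x hx
    rw [heq, mul_comm (Z.relIndex L)] at h3
    exact Complex.normSq_eq_zero.1 ((Finset.sum_eq_zero_iff_of_nonneg
      fun y _ => Complex.normSq_nonneg _).1 (by linarith) x
        (Finset.mem_filter.2 ⟨Finset.mem_univ _, hx⟩))

theorem vanish {x : H} (hx : x ∉ Z) : (χ : H → ℂ) x = 0 := by
  classical
  haveI := Fintype.ofFinite H
  have h1 : ∑ y : H, Complex.normSq ((χ : H → ℂ) y) = (Nat.card H : ℝ) := by
    have h := Chars.classInner_irr_self χ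
    rw [Cfsg.classInner, inv_mul_eq_iff_eq_mul₀ Chars.natCard_ne_zero, mul_one] at h
    have h' : ((∑ y : H, Complex.normSq ((χ : H → ℂ) y) : ℝ) : ℂ) = ((Nat.card H : ℝ) : ℂ) := by
      push_cast
      rw [← h]
      exact Finset.sum_congr rfl fun y _ => (Complex.mul_conj _).symm
    exact_mod_cast h'
  haveI := Fintype.ofFinite Z
  have h2 : ∑ y ∈ Finset.univ.filter (fun y : H => y ∈ Z), Complex.normSq ((χ : H → ℂ) y) =
      (Nat.card H : ℝ) := by
    rw [Finset.sum_subtype (Finset.univ.filter fun y : H => y ∈ Z) (p := fun y => y ∈ Z) (by simp)]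
    have h' : ((∑ z : Z, Complex.normSq ((χ : H → ℂ) z) : ℝ) : ℂ) = ((Nat.card H : ℝ) : ℂ) := by
      push_cast
      rw [← Subgroup.index_mul_card Z, ← R.sq, Nat.cast_mul, ← R.sum_theta, Finset.mul_sum]
      refine Finset.sum_congr rfl fun z _ => ?_
      rw [← Complex.mul_conj, R.res, map_mul, Complex.conj_natCast, Nat.cast_pow]
      ring
    exact_mod_cast h'
  have h3 := Finset.sum_filter_add_sum_filter_not (Finset.univ : Finset H)
    (fun y => y ∈ Z) (fun y => Complex.normSq ((χ : H → ℂ) y))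
  rw [h1, h2, add_eq_left, Finset.sum_eq_zero_iff_of_nonneg
    (fun y _ => Complex.normSq_nonneg _)] at h3
  exact Complex.normSq_eq_zero.1 (h3 x (by simp [hx]))

theorem exists_mult (hZL : Z ≤ L) {ω : IrrCharacter L} (hω : Over hZL θ ω) :
    ∃ m : ℕ, m * Z.relIndex L = e * charMult (resSub hZL (ω : L → ℂ)) (θ : Z → ℂ) := by
  classical
  haveI := Fintype.ofFinite L
  set c := charMult (resSub hZL (ω : L → ℂ)) (θ : Z → ℂ)
  obtain ⟨m, hm⟩ := Chars.isCharacter_classInner_nat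
    (Chars.isCharacter_comp L.subtype (Chars.irr_isCharacter χ)) (Chars.irr_isCharacter ω)
  refine ⟨m, ?_⟩
  rw [Cfsg.classInner, inv_mul_eq_iff_eq_mul₀ Chars.natCard_ne_zero,
    ← Finset.sum_filter_add_sum_filter_not Finset.univ (fun x : L => (x : H) ∈ Z)] at hm
  rw [Finset.sum_eq_zero (s := Finset.univ.filter fun x : L => ¬ (x : H) ∈ Z)
    (fun x hx => by
      rw [Subgroup.coe_subtype, R.vanish (Finset.mem_filter.1 hx).2, zero_mul]), add_zero] at hm
  have h2 : ∑ x ∈ Finset.univ.filter (fun x : L => (x : H) ∈ Z),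
      (χ : H → ℂ) (L.subtype x) * conj ((ω : L → ℂ) x) = (e : ℂ) * c * (Nat.card Z : ℂ) := by
    haveI := Fintype.ofFinite Z
    rw [← R.sum_theta, Finset.mul_sum]
    refine (Finset.sum_bij (fun (z : Z) _ => (⟨z, hZL z.2⟩ : L))
      (fun z _ => Finset.mem_filter.2 ⟨Finset.mem_univ _, z.2⟩)
      (fun a _ b _ h => Subtype.ext (congrArg (fun x : L => (x : H)) h))
      (fun x hx => ⟨⟨x, (Finset.mem_filter.1 hx).2⟩, Finset.mem_univ _, rfl⟩) (fun z _ => ?_)).symm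
    rw [Subgroup.coe_subtype, R.res, R.over_smul hZL hω, map_mul, Complex.conj_natCast]
    ring
  rw [h2, ← card_mul_relIndex_of_le hZL] at hm
  have h3 : e * c * Nat.card Z = Nat.card Z * Z.relIndex L * m := by exact_mod_cast hm
  refine Nat.eq_of_mul_eq_mul_left (Nat.card_pos (α := Z)) ?_
  rw [mul_comm m, ← mul_assoc, ← h3]; ring

/-- On a Sylow overgroup there is exactly one character over `θ`, fully ramified. -/
theorem sylow_unique {p n e' : ℕ} (hp : p.Prime) (hZQ : Z ≤ Q) (hQ : Z.relIndex Q = p ^ (2 * n))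
    (he : e = p ^ n * e') (he' : ¬ p ∣ e') :
    ∃ ψ : IrrCharacter Q, Over hZQ θ ψ ∧
      charMult (resSub hZQ (ψ : Q → ℂ)) (θ : Z → ℂ) = p ^ n ∧
      (∀ x : Q, (x : H) ∉ Z → (ψ : Q → ℂ) x = 0) ∧
      ∀ ψ' : IrrCharacter Q, Over hZQ θ ψ' → ψ' = ψ := by
  have key : ∀ ψ : IrrCharacter Q, Over hZQ θ ψ →
      charMult (resSub hZQ (ψ : Q → ℂ)) (θ : Z → ℂ) = p ^ n ∧
        ∀ x : Q, (x : H) ∉ Z → (ψ : Q → ℂ) x = 0 := by
    intro ψ hψ
    obtain ⟨m, hm⟩ := R.exists_mult hZQ hψ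
    obtain ⟨hle, heq⟩ := R.norm_bound hZQ hψ
    set c := charMult (resSub hZQ (ψ : Q → ℂ)) (θ : Z → ℂ)
    rw [hQ, he] at hm
    rw [hQ] at hle
    have hdvd : p ^ n ∣ e' * c := ⟨m, by
      refine Nat.eq_of_mul_eq_mul_left (pow_pos hp.pos n) ?_
      rw [← mul_assoc, ← hm, two_mul, pow_add]; ring⟩
    have hdvd' : p ^ n ∣ c :=
      (((hp.coprime_iff_not_dvd).2 he').pow_left n).dvd_of_dvd_mul_left hdvd
    have h1 : p ^ n ≤ c := Nat.le_of_dvd (Nat.pos_of_ne_zero hψ) hdvd'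
    have h2 : c ≤ p ^ n := by
      rw [mul_comm 2 n, pow_mul] at hle
      exact (Nat.pow_le_pow_iff_left two_ne_zero).1 hle
    have h3 : c = p ^ n := le_antisymm h2 h1
    exact ⟨h3, heq (by rw [hQ, h3, ← pow_mul, mul_comm])⟩
  obtain ⟨ψ, -, hψ⟩ := R.over_above (le_refl Z) hZQ (α := θ) (by
    haveI := Fintype.ofFinite Z
    rw [Over, show resSub (le_refl Z) (θ : Z → ℂ) = (θ : Z → ℂ) from rfl,
      Glauberman.charMult_eq_of (m := 1) (by rw [Chars.classInner_irr_self, Nat.cast_one])]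
    exact one_ne_zero)
  refine ⟨ψ, hψ, (key ψ hψ).1, (key ψ hψ).2, fun ψ' hψ' => Subtype.ext (funext fun x => ?_)⟩
  by_cases hx : (x : H) ∈ Z
  · have e1 := R.over_smul hZQ hψ ⟨x, hx⟩
    have e2 := R.over_smul hZQ hψ' ⟨x, hx⟩
    rw [(key ψ hψ).1] at e1
    rw [(key ψ' hψ').1] at e2
    exact e2.trans e1.symm
  · rw [(key ψ' hψ').2 x hx, (key ψ hψ).2 x hx]

end Ram

/-- The data at a prime. -/
structure Loc (χ : IrrCharacter H) (θ : IrrCharacter Z) (e p n e' : ℕ) (Q K : Subgroup H) :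
    Prop where
  ram : Ram χ θ e
  prime : p.Prime
  normal : K.Normal
  leQ : Z ≤ Q
  leK : Z ≤ K
  indexQ : Z.relIndex Q = p ^ (2 * n)
  e_eq : e = p ^ n * e'
  not_dvd : ¬ p ∣ e'
  indexK : ¬ p ∣ (K ⊓ Q).relIndex K

namespace Loc

variable {χ : IrrCharacter H} {θ : IrrCharacter Z} {e p n e' : ℕ} {K : Subgroup H}
  (D : Loc χ θ e p n e' Q K)

include D

theorem normalisesQ {q : H} (hq : q ∈ Q) : Normalises q (K ⊓ Q) :=
  Glauberman.normalises_of_mem fun g hg =>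
    ⟨D.normal.conj_mem g hg.1 q, Q.mul_mem (Q.mul_mem hq hg.2) (Q.inv_mem hq)⟩

theorem le_inf : Z ≤ K ⊓ Q := _root_.le_inf D.leK D.leQ

theorem over_conj {ω ω' : IrrCharacter ↥(K ⊓ Q)} {g : H} (hg : Normalises g (K ⊓ Q))
    (hω : Over D.le_inf θ ω) (hc : IsConjBy g (ω : ↥(K ⊓ Q) → ℂ) (ω' : ↥(K ⊓ Q) → ℂ)) :
    Over D.le_inf θ ω' := by
  rw [Over, Glauberman.charMult_conjBy hg (D.ram.normalises g) D.le_inf hc (D.ram.inv g)]
  exact hω

/-- The characters over `θ` form one orbit of `Q`, with equal multiplicities. -/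
theorem exists_orbit {ω : IrrCharacter ↥(K ⊓ Q)} (hω : Over D.le_inf θ ω) :
    ∃ ψ : IrrCharacter Q, Over D.leQ θ ψ ∧
      charMult (resSub D.leQ (ψ : Q → ℂ)) (θ : Z → ℂ) = p ^ n ∧
      (∀ x : Q, (x : H) ∉ Z → (ψ : Q → ℂ) x = 0) ∧
      (∀ ψ' : IrrCharacter Q, Over D.leQ θ ψ' → ψ' = ψ) ∧
      ∀ ω' : IrrCharacter ↥(K ⊓ Q),
        (Over D.le_inf θ ω' → charMult (resSub inf_le_right (ψ : Q → ℂ)) (ω' : ↥(K ⊓ Q) → ℂ) =
            charMult (resSub inf_le_right (ψ : Q → ℂ)) (ω : ↥(K ⊓ Q) → ℂ) ∧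
          ∃ q ∈ Q, IsConjBy q (ω : ↥(K ⊓ Q) → ℂ) (ω' : ↥(K ⊓ Q) → ℂ)) ∧
        (charMult (resSub inf_le_right (ψ : Q → ℂ)) (ω' : ↥(K ⊓ Q) → ℂ) ≠ 0 →
          Over D.le_inf θ ω') := by
  obtain ⟨ψ, hψ, hdeg, hvan, huniq⟩ :=
    D.ram.sylow_unique D.prime D.leQ D.indexQ D.e_eq D.not_dvd
  refine ⟨ψ, hψ, hdeg, hvan, huniq, fun ω' => ⟨fun hω' => ?_, fun h =>
    D.ram.over_below D.le_inf inf_le_right hψ h⟩⟩
  have habove : ∀ α : IrrCharacter ↥(K ⊓ Q), Over D.le_inf θ α →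
      charMult (resSub inf_le_right (ψ : Q → ℂ)) (α : ↥(K ⊓ Q) → ℂ) ≠ 0 := by
    intro α hα
    obtain ⟨ψ', h1, h2⟩ := D.ram.over_above (L := Q) D.le_inf inf_le_right hα
    rwa [huniq ψ' h2] at h1
  obtain ⟨q, hq, hc⟩ := Glauberman.exists_conj_of_constituent (G := Q) inf_le_right
    (fun g hg x hx => ((D.normalisesQ hg) x).1 hx) ψ ω ω' (habove ω hω) (habove ω' hω')
  exact ⟨Glauberman.charMult_conjBy
    (Glauberman.normalises_of_mem fun x hx => Q.mul_mem (Q.mul_mem hq hx) (Q.inv_mem hq))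
    (D.normalisesQ hq) inf_le_right
    (Glauberman.isConjBy_self_of_mem (Chars.irr_isClassFunction ψ) hq) hc, q, hq, hc⟩

theorem relIndex_pow : ∃ j, K.relIndex Q = p ^ j := by
  obtain ⟨j, -, hj⟩ := (Nat.dvd_prime_pow D.prime).1
    (D.indexQ ▸ Subgroup.relIndex_dvd_of_le_left Q D.leK)
  exact ⟨j, hj⟩

/-- The orbit size and the norm of the restriction. -/
theorem exists_bound {ω : IrrCharacter ↥(K ⊓ Q)} (hω : Over D.le_inf θ ω) :
    ∃ (ψ : IrrCharacter Q) (s : ℕ),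
      (∀ ψ' : IrrCharacter Q, Over D.leQ θ ψ' → ψ' = ψ) ∧ 0 < s ∧
      s * (K ⊓ Q).relIndex (Q ⊓ invGroup (ω : ↥(K ⊓ Q) → ℂ)) = K.relIndex Q ∧
      s * charMult (resSub inf_le_right (ψ : Q → ℂ)) (ω : ↥(K ⊓ Q) → ℂ) ^ 2 ≤ K.relIndex Q ∧
      s * charMult (resSub inf_le_right (ψ : Q → ℂ)) (ω : ↥(K ⊓ Q) → ℂ) *
        charMult (resSub D.le_inf (ω : ↥(K ⊓ Q) → ℂ)) (θ : Z → ℂ) = p ^ n := by
  classical
  obtain ⟨ψ, hψ, hdeg, hvan, huniq, horb⟩ := D.exists_orbit hω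
  set r := charMult (resSub inf_le_right (ψ : Q → ℂ)) (ω : ↥(K ⊓ Q) → ℂ) with hr
  set U := Q ⊓ invGroup (ω : ↥(K ⊓ Q) → ℂ) with hU
  letI : MulAction Q (IrrCharacter ↥(K ⊓ Q)) :=
    MulAction.compHom _ (Subgroup.inclusion (show Q ≤ normGroup (K ⊓ Q) from fun q hq => D.normalisesQ hq))
  have hs : ∀ (x : Q) (α : IrrCharacter ↥(K ⊓ Q)),
      IsConjBy (x : H) (α : ↥(K ⊓ Q) → ℂ) ((x • α : IrrCharacter ↥(K ⊓ Q)) : ↥(K ⊓ Q) → ℂ) := fun x α =>
    Glauberman.smul_irr_spec (Subgroup.inclusion (show Q ≤ normGroup (K ⊓ Q) from fun q hq => D.normalisesQ hq) x) α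
  set Ω := Finset.univ.filter (fun α : IrrCharacter ↥(K ⊓ Q) => Over D.le_inf θ α) with hΩ
  have horbit : MulAction.orbit Q ω = (Ω : Set (IrrCharacter ↥(K ⊓ Q))) := by
    ext α
    rw [Finset.mem_coe, hΩ, Finset.mem_filter]
    constructor
    · rintro ⟨x, rfl⟩
      exact ⟨Finset.mem_univ _, D.over_conj (D.normalisesQ x.2) hω (hs x ω)⟩
    · intro h
      obtain ⟨q, hq, hc⟩ := ((horb α).1 h.2).2
      exact ⟨⟨q, hq⟩, Subtype.ext (IsConjBy.eq (D.normalisesQ hq) (hs ⟨q, hq⟩ ω) hc)⟩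
  have hstab : MulAction.stabilizer Q ω = U.subgroupOf Q := by
    ext x
    rw [MulAction.mem_stabilizer_iff, Subgroup.mem_subgroupOf, hU, Subgroup.mem_inf]
    refine ⟨fun h => ⟨x.2, D.normalisesQ x.2, ?_⟩, fun h =>
      Subtype.ext (IsConjBy.eq (D.normalisesQ x.2) (hs x ω) h.2.2)⟩
    have := hs x ω
    rwa [h] at this
  have hcard : Ω.card = U.relIndex Q := by
    have h := MulAction.index_stabilizer Q ω
    rw [hstab, horbit, Set.ncard_coe_finset] at h
    exact h.symm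
  have hKU : (K ⊓ Q) ≤ U := fun x hx => ⟨hx.2, D.normalisesQ hx.2,
    Glauberman.isConjBy_self_of_mem (Chars.irr_isClassFunction ω) hx⟩
  have hKQ : (K ⊓ Q).relIndex Q = K.relIndex Q := Subgroup.inf_relIndex_right K Q
  refine ⟨ψ, Ω.card, huniq, Finset.card_pos.2 ⟨ω, by simp [hΩ, hω]⟩, ?_, ?_, ?_⟩
  · rw [hcard, mul_comm, Subgroup.relIndex_mul_relIndex (K ⊓ Q) U Q hKU (inf_le_left), hKQ]
  · haveI : Fintype ↥(K ⊓ Q) := Fintype.ofFinite _
    haveI : Fintype Q := Fintype.ofFinite _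
    set f : ↥(K ⊓ Q) → ℂ := resSub inf_le_right (ψ : Q → ℂ) with hf
    have hfc : Cfsg.IsCharacter ↥(K ⊓ Q) f :=
      Glauberman.isCharacter_resSub inf_le_right (Chars.irr_isCharacter ψ)
    have e1 : classInner f f =
        ((∑ α : IrrCharacter ↥(K ⊓ Q), charMult f (α : ↥(K ⊓ Q) → ℂ) ^ 2 : ℕ) : ℂ) := by
      rw [Chars.classInner_eq_sum_mul_conj (Chars.isClassFunction_of_isCharacter hfc)
        (Chars.isClassFunction_of_isCharacter hfc)]
      push_cast
      refine Finset.sum_congr rfl fun α _ => ?_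
      rw [Glauberman.charMult_spec hfc (Chars.irr_isCharacter α), Complex.conj_natCast, sq]
    have e2 : classInner f f = (K.relIndex Q : ℂ) := by
      have h := Chars.classInner_irr_self ψ
      rw [Cfsg.classInner, inv_mul_eq_iff_eq_mul₀ Chars.natCard_ne_zero, mul_one] at h
      have h' : ∑ x : ↥(K ⊓ Q), f x * conj (f x) = ∑ x : Q, (ψ : Q → ℂ) x * conj ((ψ : Q → ℂ) x) := by
        refine Finset.sum_bij_ne_zero (fun x _ _ => (⟨x, x.2.2⟩ : Q))
          (fun x _ _ => Finset.mem_univ _)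
          (fun a _ _ b _ _ h => Subtype.ext (congrArg (fun x : Q => (x : H)) h)) ?_
          (fun x _ _ => rfl)
        intro y _ hy
        have hyZ : (y : H) ∈ Z := by
          by_contra hc
          exact hy (by rw [hvan y hc, zero_mul])
        exact ⟨⟨y, D.le_inf hyZ⟩, Finset.mem_univ _, hy, rfl⟩
      rw [Cfsg.classInner, h', h, ← hKQ, ← card_mul_relIndex_of_le (inf_le_right : (K ⊓ Q) ≤ Q),
        Nat.cast_mul, inv_mul_cancel_left₀ Chars.natCard_ne_zero]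
    have e3 : ∑ α : IrrCharacter ↥(K ⊓ Q), charMult f (α : ↥(K ⊓ Q) → ℂ) ^ 2 = K.relIndex Q := by
      exact_mod_cast e1.symm.trans e2
    rw [← e3, ← smul_eq_mul, ← Finset.sum_const]
    refine le_trans (Finset.sum_le_sum fun α hα => ?_)
      (Finset.sum_le_sum_of_subset (Finset.subset_univ Ω))
    rw [hf, ((horb α).1 (Finset.mem_filter.1 hα).2).1]
  · have h := Glauberman.charMult_trans (inf_le_right : (K ⊓ Q) ≤ Q) D.le_inf (Chars.irr_isCharacter ψ) θ
    rw [hdeg, ← Finset.sum_subset (Finset.subset_univ Ω) (fun α _ hα => by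
      have : charMult (resSub inf_le_right (ψ : Q → ℂ)) (α : ↥(K ⊓ Q) → ℂ) = 0 := by
        by_contra hc
        exact hα (Finset.mem_filter.2 ⟨Finset.mem_univ _, (horb α).2 hc⟩)
      rw [this, zero_mul])] at h
    rw [h, Finset.sum_congr rfl fun α hα => show _ = r *
        charMult (resSub D.le_inf (ω : ↥(K ⊓ Q) → ℂ)) (θ : Z → ℂ) by
      obtain ⟨e1, q, hq, hc⟩ := (horb α).1 (Finset.mem_filter.1 hα).2
      rw [e1, Glauberman.charMult_conjBy (D.normalisesQ hq) (D.ram.normalises q) D.le_inf hc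
        (D.ram.inv q)], Finset.sum_const, smul_eq_mul, mul_assoc]

/-- `Q` fixes nothing outside `K`. -/
theorem free_of_le {ω : IrrCharacter ↥(K ⊓ Q)} (hω : Over D.le_inf θ ω)
    (h : ∀ ψ : IrrCharacter Q, (∀ ψ' : IrrCharacter Q, Over D.leQ θ ψ' → ψ' = ψ) →
      (K ⊓ Q).relIndex (Q ⊓ invGroup (ω : ↥(K ⊓ Q) → ℂ)) ≤
        charMult (resSub inf_le_right (ψ : Q → ℂ)) (ω : ↥(K ⊓ Q) → ℂ)) :
    Q ⊓ invGroup (ω : ↥(K ⊓ Q) → ℂ) ≤ K := by
  obtain ⟨ψ, s, huniq, hs0, hsu, hsr, -⟩ := D.exists_bound hω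
  set u := (K ⊓ Q).relIndex (Q ⊓ invGroup (ω : ↥(K ⊓ Q) → ℂ))
  have hu : u ≤ _ := h ψ huniq
  rw [← hsu] at hsr
  have h1 := Nat.le_of_mul_le_mul_left hsr hs0
  have hu1 : u = 1 := by
    have h2 : u ^ 2 ≤ u := (Nat.pow_le_pow_left hu 2).trans h1
    have h3 : u ≠ 0 := Subgroup.index_ne_zero_of_finite
    nlinarith [Nat.pos_of_ne_zero h3]
  exact (Subgroup.relIndex_eq_one.1 hu1).trans inf_le_left

/-- The complement. -/
theorem exists_complement [K.Normal] {ω : IrrCharacter ↥(K ⊓ Q)} (hω : Over D.le_inf θ ω)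
    (hfree : Q ⊓ invGroup (ω : ↥(K ⊓ Q) → ℂ) ≤ K) (hfr : normGroup (K ⊓ Q) ⊔ K = ⊤) :
    ∃ M : Subgroup (H ⧸ K), M.IsComplement' (Q.map (QuotientGroup.mk' K)) := by
  classical
  set N := normGroup (K ⊓ Q) with hN
  set S := invGroup (ω : ↥(K ⊓ Q) → ℂ) with hS
  have hQN : Q ≤ N := fun q hq => D.normalisesQ hq
  have hSN : S ≤ N := fun x hx => hx.1
  obtain ⟨ψ, hψ, hdeg, hvan, huniq, horb⟩ := D.exists_orbit hω
  have htrans : ∀ g ∈ N, ∃ q ∈ Q, q⁻¹ * g ∈ S := by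
    intro g hg
    obtain ⟨ω', hω'⟩ := Glauberman.exists_isConjBy (hg : Normalises g (K ⊓ Q)) ω
    obtain ⟨q, hq, hc⟩ := ((horb ω').1 (D.over_conj hg hω hω')).2
    refine ⟨q, hq, (D.normalisesQ (Q.inv_mem hq)).mul hg, ?_⟩
    refine IsConjBy.trans hg hω' ?_
    intro x x' hx
    exact (hc x' x (by rw [hx]; simp [mul_assoc])).symm
  have hQS : (K ⊓ Q) ≤ S := fun x hx => ⟨D.normalisesQ hx.2,
    Glauberman.isConjBy_self_of_mem (Chars.irr_isClassFunction ω) hx⟩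
  -- the index of `S` in `N` is a power of `p`
  have hidx : S.relIndex N = K.relIndex Q := by
    set S' := S.subgroupOf N
    set Q' := Q.subgroupOf N
    have h := MulAction.index_stabilizer Q' ((1 : N) : N ⧸ S')
    have horbit : MulAction.orbit Q' ((1 : N) : N ⧸ S') = Set.univ := by
      refine Set.eq_univ_of_forall fun c => ?_
      induction c using QuotientGroup.induction_on with | H g => ?_
      obtain ⟨q, hq, hqg⟩ := htrans g g.2
      refine ⟨⟨⟨q, hQN hq⟩, Subgroup.mem_subgroupOf.2 hq⟩, ?_⟩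
      show ((⟨q, hQN hq⟩ * (1 : N) : N) : N ⧸ S') = _
      rw [mul_one, QuotientGroup.eq, Subgroup.mem_subgroupOf]
      exact hqg
    have hstab : MulAction.stabilizer Q' ((1 : N) : N ⧸ S') = S'.subgroupOf Q' := by
      ext q
      rw [MulAction.mem_stabilizer_iff, Subgroup.mem_subgroupOf]
      show ((((q : N) * (1 : N)) : N) : N ⧸ S') = _ ↔ _
      rw [mul_one, QuotientGroup.eq, mul_one, Subgroup.inv_mem_iff]
    rw [horbit, hstab, Set.ncard_univ] at h
    have h1 : S.relIndex N = Nat.card (N ⧸ S') := rfl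
    rw [h1, ← h]
    show S'.relIndex Q' = _
    rw [Subgroup.relIndex_subgroupOf hQN, ← Subgroup.inf_relIndex_right,
      show S ⊓ Q = (K ⊓ Q) from le_antisymm
        (fun x hx => ⟨hfree ⟨hx.2, hx.1⟩, hx.2⟩) (fun x hx => ⟨hQS hx, hx.2⟩),
      Subgroup.inf_relIndex_right]
  -- the elements of `K` normalising `K ⊓ Q` fix `ω`
  have hA : K ⊓ N ≤ S := by
    rw [← Subgroup.relIndex_eq_one]
    obtain ⟨j, hj⟩ := D.relIndex_pow
    have hd1 : S.relIndex (K ⊓ N) ∣ p ^ j := by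
      rw [← hj, ← hidx]
      haveI : ((K ⊓ N).subgroupOf N).Normal := ⟨fun x hx g => by
        rw [Subgroup.mem_subgroupOf] at hx ⊢
        exact ⟨D.normal.conj_mem _ hx.1 _, N.mul_mem (N.mul_mem g.2 hx.2) (N.inv_mem g.2)⟩⟩
      have h := Subgroup.relIndex_dvd_index_of_le
        (le_sup_right : S.subgroupOf N ≤ (K ⊓ N).subgroupOf N ⊔ S.subgroupOf N)
      rwa [relIndex_eq_relIndex_sup, Subgroup.relIndex_subgroupOf inf_le_right] at h
    have hd2 : S.relIndex (K ⊓ N) ∣ (K ⊓ Q).relIndex K := by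
      refine (Subgroup.relIndex_dvd_of_le_left (K ⊓ N) hQS).trans (Dvd.intro ((K ⊓ N).relIndex K) ?_)
      exact Subgroup.relIndex_mul_relIndex (K ⊓ Q) (K ⊓ N) K
        (fun x hx => ⟨hx.1, hQN hx.2⟩) inf_le_left
    exact Nat.eq_one_of_dvd_coprimes (((D.prime.coprime_iff_not_dvd).2 D.indexK).pow_left j) hd1 hd2
  refine ⟨S.map (QuotientGroup.mk' K), ?_⟩
  refine Subgroup.IsComplement'.symm (Subgroup.isComplement'_of_disjoint_and_mul_eq_univ ?_ ?_)
  · rw [Subgroup.disjoint_def]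
    rintro _ ⟨q, hq, rfl⟩ ⟨s, hs, hsq⟩
    have hk : s⁻¹ * q ∈ K := QuotientGroup.eq.1 hsq
    have hkS : s⁻¹ * q ∈ S := hA ⟨hk, N.mul_mem (N.inv_mem (hSN hs)) (hQN hq)⟩
    have hqS : q ∈ S := by simpa [← mul_assoc] using S.mul_mem hs hkS
    exact (QuotientGroup.eq_one_iff q).2 (hfree ⟨hq, hqS⟩)
  · refine Set.eq_univ_of_forall fun c => ?_
    induction c using QuotientGroup.induction_on with | H g => ?_
    obtain ⟨n', hn', k, hk, rfl⟩ :=
      Subgroup.mem_sup_of_normal_right.1 (hfr.symm ▸ Subgroup.mem_top g)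
    obtain ⟨q, hq, hqs⟩ := htrans n' hn'
    refine ⟨QuotientGroup.mk' K q, ⟨q, hq, rfl⟩, QuotientGroup.mk' K (q⁻¹ * n'), ⟨_, hqs, rfl⟩, ?_⟩
    simp [QuotientGroup.mk_mul, (QuotientGroup.eq_one_iff k).2 hk]

end Loc

/-- The set-up at a Sylow subgroup of `H ⧸ K`. -/
theorem exists_loc {χ : IrrCharacter H} {θ : IrrCharacter Z} {e : ℕ} (R : Ram χ θ e)
    (K : Subgroup H) [K.Normal] (hZK : Z ≤ K) (p : ℕ) [Fact p.Prime] (P : Sylow p (H ⧸ K)) :
    ∃ (n e' : ℕ) (Q : Subgroup H), Loc χ θ e p n e' Q K ∧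
      Q.map (QuotientGroup.mk' K) = (P : Subgroup (H ⧸ K)) ∧ normGroup (K ⊓ Q) ⊔ K = ⊤ := by
  have hp : p.Prime := Fact.out
  obtain ⟨P₀, hP₀⟩ := Sylow.mapSurjective_surjective (f := QuotientGroup.mk' K)
    (QuotientGroup.mk'_surjective K) p P
  set Q := (P₀ : Subgroup H) ⊔ Z with hQ
  have hP0 : ¬ p ∣ (P₀ : Subgroup H).index := P₀.not_dvd_index
  obtain ⟨a, ha⟩ := P₀.isPGroup'.exists_card_eq
  obtain ⟨k, -, hk⟩ := (Nat.dvd_prime_pow hp).1
    (ha ▸ Subgroup.relIndex_dvd_card Z (P₀ : Subgroup H))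
  have hrel : Z.relIndex Q = p ^ k := by
    rw [← hk, hQ, Subgroup.relIndex_sup_right]
  have hQi : ¬ p ∣ Q.index := fun h => hP0 (h.trans (Subgroup.index_dvd_of_le le_sup_left))
  have hmul : p ^ k * Q.index = e ^ 2 := by
    rw [← hrel, R.sq]
    exact Subgroup.relIndex_mul_index le_sup_right
  obtain ⟨n, e', he', he⟩ := Nat.exists_eq_pow_mul_and_not_dvd R.e_ne p hp.ne_one
  have hk2 : k = 2 * n := by
    have h1 := congrArg (fun m => m.factorization p) hmul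
    simp only [Nat.factorization_mul (pow_ne_zero k hp.ne_zero) Subgroup.index_ne_zero_of_finite,
      hp.factorization_pow, Finsupp.add_apply, Finsupp.single_eq_same,
      Nat.factorization_eq_zero_of_not_dvd hQi, add_zero, Nat.factorization_pow,
      Finsupp.smul_apply, smul_eq_mul] at h1
    rw [h1, he, Nat.factorization_mul (pow_ne_zero n hp.ne_zero) (fun (h : e' = 0) => he' (h ▸ dvd_zero p))]
    simp [hp.factorization_pow, Nat.factorization_eq_zero_of_not_dvd he']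
  have hPK : ¬ p ∣ ((P₀ : Subgroup H).subgroupOf K).index := fun h => hP0 (h.trans (by
    show (P₀ : Subgroup H).relIndex K ∣ _
    rw [← relIndex_eq_relIndex_sup]
    exact Subgroup.relIndex_dvd_index_of_le le_sup_right))
  refine ⟨n, e', Q, ⟨R, hp, inferInstance, le_sup_right, hZK, hrel.trans (by rw [hk2]), he, he',
    fun h => hPK (h.trans ?_)⟩, ?_, ?_⟩
  · show _ ∣ (P₀ : Subgroup H).relIndex K
    rw [Subgroup.inf_relIndex_left]
    exact Subgroup.relIndex_dvd_of_le_left K le_sup_left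
  · rw [hQ, Subgroup.map_sup, (Subgroup.map_eq_bot_iff Z).2 (by rwa [QuotientGroup.ker_mk']),
      sup_bot_eq, ← hP₀]
    rfl
  · let P₁ : Sylow p K :=
      (P₀.isPGroup'.comap_of_injective K.subtype K.subtype_injective).toSylow hPK
    have h := Sylow.normalizer_sup_eq_top P₁
    rw [show (P₁ : Subgroup K).map K.subtype = (P₀ : Subgroup H) ⊓ K from
      Subgroup.subgroupOf_map_subtype _ _] at h
    refine top_le_iff.1 (h.ge.trans (sup_le_sup_right (fun g hg => ?_) K))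
    refine Glauberman.normalises_of_mem fun x hx => ?_
    refine ⟨‹K.Normal›.conj_mem x hx.1 g, ?_⟩
    obtain ⟨q, hq, z, hz, rfl⟩ := Subgroup.mem_sup_of_normal_right.1 hx.2
    have hqK : q ∈ K := by
      have := K.mul_mem hx.1 (K.inv_mem (hZK hz))
      simpa [mul_assoc] using this
    have h1 : g * q * g⁻¹ ∈ (P₀ : Subgroup H) ⊓ K := (Subgroup.mem_normalizer_iff.1 hg q).1 ⟨hq, hqK⟩
    have h2 := Q.mul_mem (Subgroup.mem_sup_left (T := Z) h1.1)
      (Subgroup.mem_sup_right (S := (P₀ : Subgroup H)) (‹Z.Normal›.conj_mem z hz g))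
    simpa [mul_assoc] using h2

/-- The free action for a cyclic Sylow subgroup. -/
theorem Loc.mult_ge_of_cyclic {χ : IrrCharacter H} {θ : IrrCharacter Z} {e p n e' : ℕ}
    {K : Subgroup H} [K.Normal] (D : Loc χ θ e p n e' Q K)
    (hcyc : IsCyclic (Q.map (QuotientGroup.mk' K))) {ω : IrrCharacter ↥(K ⊓ Q)}
    (hω : Over D.le_inf θ ω) (ψ : IrrCharacter Q)
    (huniq : ∀ ψ' : IrrCharacter Q, Over D.leQ θ ψ' → ψ' = ψ) :
    (K ⊓ Q).relIndex (Q ⊓ invGroup (ω : ↥(K ⊓ Q) → ℂ)) ≤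
      charMult (resSub inf_le_right (ψ : Q → ℂ)) (ω : ↥(K ⊓ Q) → ℂ) := by
  classical
  set U := Q ⊓ invGroup (ω : ↥(K ⊓ Q) → ℂ) with hU
  have hKU : (K ⊓ Q) ≤ U := fun x hx => ⟨hx.2, D.normalisesQ hx.2,
    Glauberman.isConjBy_self_of_mem (Chars.irr_isClassFunction ω) hx⟩
  set K' := (K ⊓ Q).subgroupOf U with hK'
  haveI hn : K'.Normal := ⟨fun x hx g => by
    rw [hK', Subgroup.mem_subgroupOf] at hx ⊢
    exact (D.normalisesQ g.2.1 _).1 hx⟩
  haveI : Fintype K' := Fintype.ofFinite _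
  haveI : Fintype U := Fintype.ofFinite _
  let ω' : K' → ℂ := Glauberman.pullSub hKU (ω : ↥(K ⊓ Q) → ℂ)
  have hω' : IsIrrCharacter K' ω' := Glauberman.isIrr_pullSub hKU ω
  obtain ⟨d, σ, hσ, hσω⟩ := hω'
  haveI := hσ
  have hsurj : Function.Surjective (CharExt.projG K' σ) :=
    CharExt.projG_surjective_of_char_invariant K' σ ω' hσω fun g x => by
      show (ω : ↥(K ⊓ Q) → ℂ) _ = (ω : ↥(K ⊓ Q) → ℂ) _
      refine g.2.2.2 _ _ ?_
      rfl
  let f₀ : U →* Q.map (QuotientGroup.mk' K) :=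
    ((QuotientGroup.mk' K).comp U.subtype).codRestrict _ fun x => ⟨x, x.2.1, rfl⟩
  let f : U ⧸ K' →* Q.map (QuotientGroup.mk' K) :=
    QuotientGroup.lift K' f₀ fun x hx => Subtype.ext ((QuotientGroup.eq_one_iff (x : H)).2
      (Subgroup.mem_subgroupOf.1 hx).1)
  have hf : Function.Injective f := by
    rw [injective_iff_map_eq_one]
    intro c hc
    induction c using QuotientGroup.induction_on with | H x => ?_
    have h1 : ((x : H) : H ⧸ K) = 1 := congrArg Subtype.val hc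
    exact (QuotientGroup.eq_one_iff x).2 ⟨(QuotientGroup.eq_one_iff _).1 h1, x.2.1⟩
  haveI := hcyc
  haveI : IsCyclic (U ⧸ K') := isCyclic_of_injective f hf
  obtain ⟨τ, hτ, hτω⟩ := CharExt.exists_irrCharacter_of_extension K' σ ω' hσω
    (CharExt.exists_extension_of_isCyclic K' σ hsurj)
  obtain ⟨hirr, hinj, -⟩ := Clifford.gallagher hτ
    (show IsIrrCharacter K' (Clifford.resFun K' τ) from
      (show Clifford.resFun K' τ = ω' from funext hτω) ▸ Glauberman.isIrr_pullSub hKU ω)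
  haveI : Finite (U ⧸ K' →* ℂˣ) := Finite.of_injective _ Chars.linIrr_injective
  haveI := Fintype.ofFinite (U ⧸ K' →* ℂˣ)
  let tw : (U ⧸ K' →* ℂˣ) → IrrCharacter U := fun l => ⟨_, hirr (Chars.linIrr l)⟩
  have htwinj : Function.Injective tw := fun a b h =>
    Chars.linIrr_injective (hinj (congrArg Subtype.val h))
  have hcard : Nat.card (U ⧸ K' →* ℂˣ) = (K ⊓ Q).relIndex U := by
    rw [Chars.card_monoidHom_units]
    have : commutator (U ⧸ K') = ⊥ := by
      rw [commutator_def, Subgroup.commutator_eq_bot_iff_le_centralizer]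
      exact fun a _ b _ => (IsCyclic.commGroup (α := U ⧸ K')).mul_comm b a
    rw [this, Subgroup.index_bot]
    rfl
  have hpos : ∀ l, charMult (resSub (inf_le_left : U ≤ Q) (ψ : Q → ℂ)) (tw l : U → ℂ) ≠ 0 ∧
      charMult (resSub hKU (tw l : U → ℂ)) (ω : ↥(K ⊓ Q) → ℂ) ≠ 0 := by
    intro l
    have hres : resSub hKU (tw l : U → ℂ) = (ω : ↥(K ⊓ Q) → ℂ) := funext fun x => by
      have hx : (⟨x, hKU x.2⟩ : U) ∈ K' := Subgroup.mem_subgroupOf.2 x.2
      show τ _ * _ = _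
      rw [show (Chars.inflate K' (Chars.linIrr l) : U → ℂ) ⟨x, hKU x.2⟩ = 1 from by
        show ((l ((⟨x, hKU x.2⟩ : U) : U ⧸ K') : ℂˣ) : ℂ) = 1
        rw [(QuotientGroup.eq_one_iff _).2 hx, map_one, Units.val_one], mul_one]
      exact hτω ⟨_, hx⟩
    have h2 : charMult (resSub hKU (tw l : U → ℂ)) (ω : ↥(K ⊓ Q) → ℂ) ≠ 0 := by
      haveI := Fintype.ofFinite ↥(K ⊓ Q)
      rw [hres, Glauberman.charMult_eq_of (m := 1) (by rw [Chars.classInner_irr_self, Nat.cast_one])]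
      exact one_ne_zero
    obtain ⟨ψ', h1, h1'⟩ := D.ram.over_above (L := Q) (D.le_inf.trans hKU) inf_le_left
      (α := tw l) (charMult_trans_ne_zero hKU D.le_inf (tw l) ω θ h2 hω)
    exact ⟨huniq ψ' h1' ▸ h1, h2⟩
  rw [← hcard, Nat.card_eq_fintype_card, show (inf_le_right : (K ⊓ Q) ≤ Q) = hKU.trans inf_le_left from rfl,
    Glauberman.charMult_trans (inf_le_left : U ≤ Q) hKU (Chars.irr_isCharacter ψ)]
  calc Fintype.card (U ⧸ K' →* ℂˣ) = ∑ l : U ⧸ K' →* ℂˣ, 1 := by simp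
    _ ≤ ∑ l, charMult (resSub (inf_le_left : U ≤ Q) (ψ : Q → ℂ)) (tw l : U → ℂ) *
        charMult (resSub hKU (tw l : U → ℂ)) (ω : ↥(K ⊓ Q) → ℂ) :=
      Finset.sum_le_sum fun l _ => Nat.one_le_iff_ne_zero.2 (mul_ne_zero (hpos l).1 (hpos l).2)
    _ = ∑ δ ∈ Finset.univ.image tw, _ := (Finset.sum_image
        (f := fun δ : IrrCharacter U => charMult (resSub (inf_le_left : U ≤ Q) (ψ : Q → ℂ)) (δ : U → ℂ) *
          charMult (resSub hKU (δ : U → ℂ)) (ω : ↥(K ⊓ Q) → ℂ)) htwinj.injOn).symm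
    _ ≤ _ := Finset.sum_le_sum_of_subset (Finset.subset_univ _)

/-- A cyclic Sylow subgroup of the quotient has a complement. -/
theorem exists_complement_of_cyclic {χ : IrrCharacter H} {θ : IrrCharacter Z} {e : ℕ}
    (R : Ram χ θ e) (K : Subgroup H) [K.Normal] (hZK : Z ≤ K) (p : ℕ) [Fact p.Prime]
    (P : Sylow p (H ⧸ K)) (hcyc : IsCyclic P) :
    ∃ M : Subgroup (H ⧸ K), M.IsComplement' (P : Subgroup (H ⧸ K)) := by
  obtain ⟨n, e', Q, D, hmap, hfr⟩ := exists_loc R K hZK p P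
  obtain ⟨ω, -, hω⟩ := R.over_above (L := K ⊓ Q) (le_refl Z) D.le_inf (α := θ) (by
    haveI := Fintype.ofFinite Z
    rw [Over, show resSub (le_refl Z) (θ : Z → ℂ) = (θ : Z → ℂ) from rfl,
      Glauberman.charMult_eq_of (m := 1) (by rw [Chars.classInner_irr_self, Nat.cast_one])]
    exact one_ne_zero)
  have hfree := D.free_of_le hω fun ψ huniq =>
    D.mult_ge_of_cyclic (hmap ▸ hcyc) hω ψ huniq
  rw [← hmap]
  exact D.exists_complement hω hfree hfr

/-- The free action for a character induced from `K`. -/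
theorem Loc.free_of_induced {χ : IrrCharacter H} {θ : IrrCharacter Z} {e p n e' : ℕ}
    {K : Subgroup H} [K.Normal] [Fintype H] [Fintype K] (D : Loc χ θ e p n e' Q K) {φ : K → ℂ}
    (hφ : Cfsg.IsCharacter K φ) (hind : Cfsg.indFun K φ = (χ : H → ℂ)) :
    ∃ ω : IrrCharacter ↥(K ⊓ Q), Over D.le_inf θ ω ∧
      Q ⊓ invGroup (ω : ↥(K ⊓ Q) → ℂ) ≤ K := by
  classical
  haveI : Fintype ↥(K ⊓ Q) := Fintype.ofFinite _
  haveI : Fintype Z := Fintype.ofFinite _
  set φp := resSub (inf_le_left : (K ⊓ Q) ≤ K) φ with hφp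
  have hφpc : Cfsg.IsCharacter ↥(K ⊓ Q) φp := Glauberman.isCharacter_resSub inf_le_left hφ
  -- constituents lie over `θ`
  have hover : ∀ α : IrrCharacter ↥(K ⊓ Q), charMult φp (α : ↥(K ⊓ Q) → ℂ) ≠ 0 → Over D.le_inf θ α := by
    intro α hα
    obtain ⟨γ, hγ⟩ := Glauberman.exists_below D.le_inf α
    suffices γ = θ by exact this ▸ hγ
    have hpos : classInner (fun z : Z => φ ⟨z, D.leK z.2⟩) (γ : Z → ℂ) ≠ 0 := by
      have h1 := Glauberman.charMult_trans (inf_le_left : (K ⊓ Q) ≤ K) D.le_inf hφ γ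
      have h2 : charMult (resSub (D.le_inf.trans inf_le_left) φ) (γ : Z → ℂ) ≠ 0 := by
        rw [h1]
        intro h0
        exact mul_ne_zero hα hγ (Finset.sum_eq_zero_iff.1 h0 α (Finset.mem_univ _))
      rw [show classInner (fun z : Z => φ ⟨z, D.leK z.2⟩) (γ : Z → ℂ) = _ from
        Glauberman.charMult_spec (Glauberman.isCharacter_resSub (D.le_inf.trans inf_le_left) hφ)
          (Chars.irr_isCharacter γ)]
      exact_mod_cast h2
    by_contra hne
    have hzero : ∑ x : H, classInner (fun z : Z => Clifford.conjFun x φ ⟨z, D.leK z.2⟩)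
        (γ : Z → ℂ) = 0 := by
      have hres := Clifford.resFun_indFun (N := K) φ
      rw [hind] at hres
      have h3 : classInner (fun z : Z => (χ : H → ℂ) z) (γ : Z → ℂ) = 0 := by
        rw [show (fun z : Z => (χ : H → ℂ) z) = (e : ℂ) • (θ : Z → ℂ) from funext D.ram.res,
          Chars.classInner_smul_left, Chars.classInner_irr_of_ne (Ne.symm hne), mul_zero]
      have h4 : (fun z : Z => (χ : H → ℂ) z) = (Nat.card K : ℂ)⁻¹ •
          ∑ x : H, (fun z : Z => Clifford.conjFun x φ ⟨z, D.leK z.2⟩) := by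
        funext z
        have := congrFun hres ⟨z, D.leK z.2⟩
        simpa [Finset.sum_apply, Clifford.resFun] using this
      rw [h4, Chars.classInner_smul_left, Chars.classInner_sum_left] at h3
      exact (mul_eq_zero.1 h3).resolve_left (inv_ne_zero Chars.natCard_ne_zero)
    have hnat : ∀ x : H, ∃ k : ℕ,
        classInner (fun z : Z => Clifford.conjFun x φ ⟨z, D.leK z.2⟩) (γ : Z → ℂ) = k := fun x =>
      Chars.isCharacter_classInner_nat
        (Chars.isCharacter_comp (Subgroup.inclusion D.leK) (Clifford.isCharacter_conjFun x hφ))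
        (Chars.irr_isCharacter γ)
    choose k hk using hnat
    simp only [hk] at hzero
    have hzero' : ∑ x : H, k x = 0 := by exact_mod_cast hzero
    have := hk 1
    rw [Finset.sum_eq_zero_iff.1 hzero' 1 (Finset.mem_univ _), Nat.cast_zero,
      Clifford.conjFun_one] at this
    exact hpos this
  -- the degrees
  obtain ⟨d, hd⟩ := Chars.isCharacter_exists_degree hφ
  have hθ1 : (θ : Z → ℂ) 1 ≠ 0 := Chars.irr_apply_one_ne_zero θ
  have hd0 : d ≠ 0 := by
    intro h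
    have h1 := congrFun hind 1
    rw [Chars.indFun_one_eq, hd, h, Nat.cast_zero, mul_zero] at h1
    exact Chars.irr_apply_one_ne_zero χ h1.symm
  have hdec := congrFun (Glauberman.eq_sum_charMult hφpc) 1
  rw [show φp 1 = φ 1 from rfl, hd, Finset.sum_apply] at hdec
  obtain ⟨ω, hω0⟩ : ∃ ω : IrrCharacter ↥(K ⊓ Q), charMult φp (ω : ↥(K ⊓ Q) → ℂ) ≠ 0 := by
    by_contra hall
    push Not at hall
    simp only [hall, Nat.cast_zero, zero_smul, Pi.zero_apply, Finset.sum_const_zero] at hdec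
    exact hd0 (by exact_mod_cast hdec)
  have hω := hover ω hω0
  refine ⟨ω, hω, D.free_of_le hω fun ψ huniq => ?_⟩
  obtain ⟨ψ', s, huniq', hs0, hsu, -, hsrc⟩ := D.exists_bound hω
  obtain ⟨ψ₀, hψ₀, -⟩ := D.exists_orbit hω
  have hψψ : ψ' = ψ := (huniq' ψ₀ hψ₀).symm.trans (huniq ψ₀ hψ₀)
  rw [hψψ] at hsrc
  set c := charMult (resSub D.le_inf (ω : ↥(K ⊓ Q) → ℂ)) (θ : Z → ℂ) with hc
  set r := charMult (resSub inf_le_right (ψ : Q → ℂ)) (ω : ↥(K ⊓ Q) → ℂ)
  set M := ∑ α : IrrCharacter ↥(K ⊓ Q), charMult φp (α : ↥(K ⊓ Q) → ℂ) with hMdef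
  have hdeg : ∀ α : IrrCharacter ↥(K ⊓ Q), (charMult φp (α : ↥(K ⊓ Q) → ℂ) : ℂ) * (α : ↥(K ⊓ Q) → ℂ) 1 =
      (charMult φp (α : ↥(K ⊓ Q) → ℂ) : ℂ) * ((c : ℂ) * (θ : Z → ℂ) 1) := by
    intro α
    by_cases h0 : charMult φp (α : ↥(K ⊓ Q) → ℂ) = 0
    · simp [h0]
    obtain ⟨ψ₁, -, -, -, -, horb⟩ := D.exists_orbit hω
    obtain ⟨q, hq, hcq⟩ := ((horb α).1 (hover α h0)).2
    rw [show (α : ↥(K ⊓ Q) → ℂ) 1 = (ω : ↥(K ⊓ Q) → ℂ) 1 from hcq 1 1 (by simp)]
    congr 1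
    exact D.ram.over_smul D.le_inf hω 1
  have hdM : (d : ℂ) = (M : ℂ) * ((c : ℂ) * (θ : Z → ℂ) 1) := by
    rw [hdec, hMdef, Nat.cast_sum, Finset.sum_mul]
    exact Finset.sum_congr rfl fun α _ => hdeg α
  have he : e = K.index * (M * c) := by
    have h1 := congrFun hind 1
    rw [Chars.indFun_one_eq, hd, hdM, show (χ : H → ℂ) 1 = (e : ℂ) * (θ : Z → ℂ) 1 from
      D.ram.res 1, ← mul_assoc (M : ℂ), ← mul_assoc] at h1
    exact_mod_cast (mul_right_cancel₀ hθ1 h1).symm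
  obtain ⟨j, hj⟩ := D.relIndex_pow
  obtain ⟨i, -, hi⟩ := (Nat.dvd_prime_pow D.prime).1 (Dvd.intro_left _ hsrc : c ∣ p ^ n)
  have hdvd : K.relIndex Q * c ∣ p ^ n := by
    have h1 : K.relIndex Q * c ∣ e := by
      rw [he]
      exact mul_dvd_mul (Subgroup.relIndex_dvd_index_of_normal K Q) (dvd_mul_left _ _)
    rw [hj, hi, ← pow_add] at h1 ⊢
    rw [D.e_eq] at h1
    exact (((D.prime.coprime_iff_not_dvd).2 D.not_dvd).pow_left _).dvd_of_dvd_mul_right h1
  have hle := Nat.le_of_dvd (pow_pos D.prime.pos n) hdvd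
  rw [← hsrc, ← hsu] at hle
  exact Nat.le_of_mul_le_mul_left (Nat.le_of_mul_le_mul_right hle (Nat.pos_of_ne_zero hω)) hs0

/-- A quotient from which the character is induced has every complement. -/
theorem exists_complement_of_induced {χ : IrrCharacter H} {θ : IrrCharacter Z} {e : ℕ}
    (R : Ram χ θ e) (K : Subgroup H) [K.Normal] [Fintype H] [Fintype K] (hZK : Z ≤ K) {φ : K → ℂ}
    (hφ : Cfsg.IsCharacter K φ) (hind : Cfsg.indFun K φ = (χ : H → ℂ)) (p : ℕ) [Fact p.Prime]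
    (P : Sylow p (H ⧸ K)) : ∃ M : Subgroup (H ⧸ K), M.IsComplement' (P : Subgroup (H ⧸ K)) := by
  obtain ⟨n, e', Q, D, hmap, hfr⟩ := exists_loc R K hZK p P
  obtain ⟨ω, hω, hfree⟩ := D.free_of_induced hφ hind
  rw [← hmap]
  exact D.exists_complement hω hfree hfr

end Cfsg.Agent.Lib.FullyRamified
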